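import Mathlib

/-! Projective modules and products. -/

universe u v
set_option autoImplicit false

open TensorProduct
open scoped Classical

namespace Groth.Agent.PrePerfProj

variable {R : Type u} [CommRing R] {M : Type u} [AddCommGroup M] [Module R M]
  {ι : Type v} {N : ι → Type u} [∀ i, AddCommGroup (N i)] [∀ i, Module R (N i)]

theorem naturality {F : Type u} [AddCommGroup F] [Module R F] (s : M →ₗ[R] F)
    (Q : Submodule R (∀ i, N i)) (z : M ⊗[R] Q) (i : ι) :
    ((LinearMap.proj i).comp Q.subtype).lTensor F (s.rTensor Q z) =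
      s.rTensor (N i) (((LinearMap.proj i).comp Q.subtype).lTensor M z) := by
  induction z with
  | zero => simp
  | tmul m x => simp
  | add x y hx hy => simp only [map_add, hx, hy]

theorem coord_comm {κ : Type u} {P : Type*} {P' : Type*} [AddCommMonoid P] [Module R P] [AddCommMonoid P'] [Module R P']
    (f : P →ₗ[R] P') (w : (κ →₀ R) ⊗[R] P) (j : κ) :
    TensorProduct.equivFinsuppOfBasisLeft Finsupp.basisSingleOne (f.lTensor (κ →₀ R) w) j =
      f (TensorProduct.equivFinsuppOfBasisLeft Finsupp.basisSingleOne w j) := by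
  induction w with
  | zero => simp
  | tmul a x =>
    rw [LinearMap.lTensor_tmul, TensorProduct.equivFinsuppOfBasisLeft_apply_tmul_apply,
      TensorProduct.equivFinsuppOfBasisLeft_apply_tmul_apply, map_smul]
  | add x y hx hy => simp only [map_add, Finsupp.add_apply, hx, hy]

/-- For projective `M` the map `M ⊗ Q → ∏ M ⊗ N i` is injective for a submodule `Q` of a product. -/
theorem injective_of_projective [Module.Projective R M] (Q : Submodule R (∀ i, N i)) (z : M ⊗[R] Q)
    (hz : ∀ i, ((LinearMap.proj i).comp Q.subtype).lTensor M z = 0) : z = 0 := by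
  classical
  obtain ⟨s, hs⟩ := Module.projective_def.mp (inferInstance : Module.Projective R M)
  let r := Finsupp.linearCombination R (id : M → M)
  have hw : s.rTensor Q z = 0 := by
    refine (TensorProduct.equivFinsuppOfBasisLeft Finsupp.basisSingleOne).injective (Finsupp.ext fun j => ?_)
    rw [map_zero, Finsupp.zero_apply]
    refine Subtype.ext (funext fun i => ?_)
    have h := congrArg (fun t => TensorProduct.equivFinsuppOfBasisLeft Finsupp.basisSingleOne t j) (naturality s Q z i)
    simp only [hz i, map_zero, Finsupp.zero_apply] at h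
    have h' := coord_comm ((LinearMap.proj i).comp Q.subtype) (s.rTensor Q z) j
    exact h'.symm.trans h
  have h2 : r.rTensor Q (s.rTensor Q z) = z := by
    rw [← LinearMap.comp_apply, ← LinearMap.rTensor_comp]
    have : r.comp s = LinearMap.id := LinearMap.ext hs
    rw [this, LinearMap.rTensor_id, LinearMap.id_apply]
  rw [← h2, hw, map_zero]

/-- For finite projective `M` every compatible family comes from `M ⊗ Q`. -/
theorem exists_of_compatible [Module.Finite R M] [Module.Projective R M] {N : ℕ → Type u}
    [∀ i, AddCommGroup (N i)] [∀ i, Module R (N i)] (F : ∀ i, N (i + 1) →ₗ[R] N i)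
    (Q : Submodule R (∀ i, N i)) (hQ : ∀ x : ∀ i, N i, x ∈ Q ↔ ∀ i, F i (x (i + 1)) = x i)
    (y : ∀ i, M ⊗[R] N i) (hy : ∀ i, (F i).lTensor M (y (i + 1)) = y i) :
    ∃ z : M ⊗[R] Q, ∀ i, ((LinearMap.proj i).comp Q.subtype).lTensor M z = y i := by
  classical
  obtain ⟨n, r, s, -, -, hrs⟩ := Module.Finite.exists_comp_eq_id_of_projective R M
  let b := Pi.basisFun R (Fin n)
  let c : ∀ (j : Fin n) i, N i := fun j i =>
    TensorProduct.equivFinsuppOfBasisLeft b (s.rTensor (N i) (y i)) j
  have hc : ∀ j, c j ∈ Q := fun j => (hQ _).mpr fun i => by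
    have h1 : ∀ w : (Fin n → R) ⊗[R] N (i + 1), F i (TensorProduct.equivFinsuppOfBasisLeft b w j) =
        TensorProduct.equivFinsuppOfBasisLeft b ((F i).lTensor _ w) j := by
      intro w
      induction w with
      | zero => simp
      | tmul a x =>
        rw [LinearMap.lTensor_tmul, TensorProduct.equivFinsuppOfBasisLeft_apply_tmul_apply,
          TensorProduct.equivFinsuppOfBasisLeft_apply_tmul_apply, map_smul]
      | add x y hx hy => simp only [map_add, Finsupp.add_apply, hx, hy]
    show F i (c j (i + 1)) = c j i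
    simp only [c]
    rw [h1]
    congr 2
    rw [← hy i, ← LinearMap.comp_apply, ← LinearMap.comp_apply (f := LinearMap.rTensor (N i) s),
      LinearMap.lTensor_comp_rTensor, LinearMap.rTensor_comp_lTensor]
  refine ⟨r.rTensor Q (∑ j, b j ⊗ₜ[R] (⟨c j, hc j⟩ : Q)), fun i => ?_⟩
  rw [naturality]
  simp only [map_sum, LinearMap.lTensor_tmul, LinearMap.comp_apply, LinearMap.proj_apply, Submodule.subtype_apply]
  have h2 : ∑ j, b j ⊗ₜ[R] c j i = s.rTensor (N i) (y i) := by
    apply (TensorProduct.equivFinsuppOfBasisLeft b).injective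
    ext j
    simp only [map_sum, Finsupp.finsetSum_apply, TensorProduct.equivFinsuppOfBasisLeft_apply_tmul_apply,
      Module.Basis.repr_self, Finsupp.single_apply, ite_smul, one_smul, zero_smul, Finset.sum_ite_eq',
      Finset.mem_univ, if_true, c]
  rw [← map_sum, h2, ← LinearMap.comp_apply, ← LinearMap.rTensor_comp, hrs, LinearMap.rTensor_id,
    LinearMap.id_apply]

end Groth.Agent.PrePerfProj
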