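import Groth.Agent.PrePerfProj.Basic
import Groth.Prelude.Def_FrobAlg
import Mathlib

/-! The perfection of a ring with projective Frobenius module. -/

universe u
set_option autoImplicit false
set_option linter.style.haveILetI false
set_option backward.isDefEq.respectTransparency false

open TensorProduct

noncomputable section

namespace Groth.Agent.PrePerfProj

variable (p : ℕ) [Fact p.Prime] (R : Type u) [CommRing R] [CharP R p]

theorem exists_dual [Module.Projective R (FrobAlg.Twist p R)] :
    ∃ (J : Type u) (f : J → R) (s : R →+ (J →₀ R)), (∀ r a, s (r ^ p * a) = r • s a) ∧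
      ∀ a, a = (s a).sum fun j b => b ^ p * f j := by
  obtain ⟨s, hs⟩ := Module.projective_def.mp (inferInstance : Module.Projective R (FrobAlg.Twist p R))
  have hsm : ∀ (r : R) (b : R), r • FrobAlg.toTwist p R b = FrobAlg.toTwist p R (r ^ p * b) := fun r b => by
    rw [Algebra.smul_def, FrobAlg.algebraMap_twist, ← map_mul]
  refine ⟨FrobAlg.Twist p R, fun j => (FrobAlg.toTwist p R).symm j,
    ⟨⟨fun a => s (FrobAlg.toTwist p R a), by rw [map_zero]; exact map_zero s⟩,
      fun a b => by show s _ = s _ + s _; rw [map_add]; exact map_add s _ _⟩,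
    fun r a => ?_, fun a => ?_⟩
  · show s (FrobAlg.toTwist p R (r ^ p * a)) = r • s (FrobAlg.toTwist p R a)
    rw [← hsm, map_smul]
  · show a = (s (FrobAlg.toTwist p R a)).sum fun j b => b ^ p * (FrobAlg.toTwist p R).symm j
    have h := hs (FrobAlg.toTwist p R a)
    rw [Finsupp.linearCombination_apply] at h
    apply (FrobAlg.toTwist p R).injective
    conv_lhs => rw [← h]
    rw [map_finsuppSum]
    refine Finsupp.sum_congr fun j _ => ?_
    rw [map_mul, RingEquiv.apply_symm_apply, id, Algebra.smul_def, FrobAlg.algebraMap_twist]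

theorem exists_splitting [Module.Projective R (FrobAlg.Twist p R)] :
    ∃ φ : R →+ R, (∀ a b, φ (a ^ p * b) = a * φ b) ∧ φ 1 = 1 := by
  classical
  obtain ⟨J, f, s, hs, hsum⟩ := exists_dual p R
  have hone : (1 : R) ∈ Ideal.span (Set.range fun j : (s 1).support => s 1 j) := by
    rw [show (1 : R) ∈ Ideal.span (Set.range fun j : (s 1).support => s 1 j) ↔ ((s 1).sum fun j b => b ^ p * f j) ∈ Ideal.span (Set.range fun j : (s 1).support => s 1 j) by rw [← hsum 1], Finsupp.sum]
    refine Ideal.sum_mem _ fun j hj => Ideal.mul_mem_right _ _ (Ideal.pow_mem_of_mem _ ?_ _ (Fact.out : p.Prime).pos)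
    exact Ideal.subset_span ⟨⟨j, hj⟩, rfl⟩
  obtain ⟨d, hd⟩ := Ideal.mem_span_range_iff_exists_fun.mp hone
  refine ⟨⟨⟨fun a => ∑ j : (s 1).support, d j * s a j, by simp⟩, fun a b => ?_⟩, fun a b => ?_, ?_⟩
  · simp [mul_add, Finset.sum_add_distrib]
  · show ∑ j : (s 1).support, d j * s (a ^ p * b) j = a * ∑ j : (s 1).support, d j * s b j
    rw [hs, Finset.mul_sum]
    exact Finset.sum_congr rfl fun j _ => by rw [Finsupp.smul_apply, smul_eq_mul]; ring
  · exact hd

theorem exists_dual_iterate [Module.Projective R (FrobAlg.Twist p R)] : ∀ n : ℕ,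
    ∃ (J : Type u) (f : J → R) (s : R →+ (J →₀ R)), (∀ r a, s (r ^ p ^ n * a) = r • s a) ∧
      ∀ a, a = (s a).sum fun j b => b ^ p ^ n * f j := by
  classical
  intro n
  induction n with
  | zero =>
    refine ⟨PUnit, fun _ => 1, Finsupp.singleAddHom PUnit.unit, fun r a => by simp, fun a => by simp⟩
  | succ n ih =>
    obtain ⟨J, f, s, hs, hsum⟩ := exists_dual p R
    obtain ⟨I, g, t, ht, htsum⟩ := ih
    have hp0 : p ^ (n + 1) ≠ 0 := pow_ne_zero _ (Fact.out : p.Prime).ne_zero
    let T : R →+ ((J × I) →₀ R) :=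
      (Finsupp.liftAddHom fun j => (Finsupp.mapDomain.addMonoidHom fun i => (j, i)).comp t).comp s
    refine ⟨J × I, fun x => g x.2 ^ p * f x.1, T, fun r a => ?_, fun a => ?_⟩
    · show Finsupp.liftAddHom (fun j => (Finsupp.mapDomain.addMonoidHom fun i => ((j, i) : J × I)).comp t) (s _) = r • Finsupp.liftAddHom (fun j => (Finsupp.mapDomain.addMonoidHom fun i => ((j, i) : J × I)).comp t) (s a)
      rw [show r ^ p ^ (n + 1) = (r ^ p ^ n) ^ p by rw [← pow_mul, pow_succ], hs, Finsupp.liftAddHom_apply,
        Finsupp.liftAddHom_apply, Finsupp.sum_smul_index (fun _ => map_zero _), Finsupp.smul_sum]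
      refine Finsupp.sum_congr fun j _ => ?_
      simp only [AddMonoidHom.comp_apply, Finsupp.mapDomain.addMonoidHom_apply]
      rw [ht, Finsupp.mapDomain_smul]
    · conv_lhs => rw [hsum a]
      show _ = Finsupp.sum (Finsupp.liftAddHom (fun j => (Finsupp.mapDomain.addMonoidHom fun i => ((j, i) : J × I)).comp t) (s a)) _
      rw [Finsupp.liftAddHom_apply, Finsupp.sum_sum_index
        (fun _ => by rw [zero_pow hp0, zero_mul]) (fun _ b b' => by rw [add_pow_char_pow, add_mul])]
      refine Finsupp.sum_congr fun j _ => ?_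
      simp only [AddMonoidHom.comp_apply, Finsupp.mapDomain.addMonoidHom_apply]
      rw [Finsupp.sum_mapDomain_index
        (fun _ => by rw [zero_pow hp0, zero_mul]) (fun _ b b' => by rw [add_pow_char_pow, add_mul])]
      conv_lhs => rw [htsum (s a j), Finsupp.sum, sum_pow_char, Finset.sum_mul]
      rw [Finsupp.sum]
      refine Finset.sum_congr rfl fun i _ => ?_
      simp only
      rw [mul_pow, ← pow_mul, ← pow_succ, mul_assoc]

theorem of_mul_mk (r : R) (m : ℕ) (a : R) :
    PerfectClosure.of R p r * PerfectClosure.mk R p (m, a) = PerfectClosure.mk R p (m, r ^ p ^ m * a) := by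
  show PerfectClosure.mk R p (0, r) * _ = _
  rw [PerfectClosure.mk_mul_mk]
  simp [iterate_frobenius]

/-- The maps `R' → T → R'` fixing level `n`. -/
theorem exists_retraction [Module.Projective R (FrobAlg.Twist p R)] (n : ℕ) :
    letI : Algebra R (PerfectClosure R p) := (PerfectClosure.of R p).toAlgebra
    ∃ (J : Type u) (α : PerfectClosure R p →ₗ[R] (J →₀ R)) (β : (J →₀ R) →ₗ[R] PerfectClosure R p),
      ∀ m a, m ≤ n → β (α (PerfectClosure.mk R p (m, a))) = PerfectClosure.mk R p (m, a) := by
  classical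
  letI : Algebra R (PerfectClosure R p) := (PerfectClosure.of R p).toAlgebra
  have hsmul : ∀ (r : R) (x : PerfectClosure R p), r • x = PerfectClosure.of R p r * x := fun r x => Algebra.smul_def r x
  obtain ⟨φ, hφ, hφ1⟩ := exists_splitting p R
  obtain ⟨J, f, s, hs, hsum⟩ := exists_dual_iterate p R n
  have hφp : ∀ b, φ (b ^ p) = b := fun b => by rw [← mul_one (b ^ p), hφ, hφ1, mul_one]
  have hφit : ∀ (m : ℕ) (r b : R), (φ^[m]) (r ^ p ^ m * b) = r * (φ^[m]) b := by
    intro m
    induction m with
    | zero => intro r b; simp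
    | succ m ih =>
      intro r b
      rw [Function.iterate_succ_apply, Function.iterate_succ_apply,
        show r ^ p ^ (m + 1) = (r ^ p ^ m) ^ p by rw [← pow_mul, pow_succ], hφ, ih]
  have hφit' : ∀ (m : ℕ) (b : R), (φ^[m]) (b ^ p ^ m) = b := fun m b => by
    have := hφit m b 1
    rwa [mul_one, show (φ^[m]) 1 = 1 from Function.iterate_fixed hφ1 m, mul_one] at this
  let ρ : PerfectClosure R p → R := fun x => x.liftOn (fun y => (φ^[y.1]) (y.2 ^ p ^ n)) (by
    rintro _ _ ⟨m, a⟩
    show (φ^[m]) (a ^ p ^ n) = (φ^[m + 1]) ((frobenius R p a) ^ p ^ n)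
    rw [Function.iterate_succ_apply, frobenius_def, ← pow_mul, mul_comm p, pow_mul, hφp])
  have hρ : ∀ m a, ρ (PerfectClosure.mk R p (m, a)) = (φ^[m]) (a ^ p ^ n) := fun m a => rfl
  have hlevel : ∀ m m' a, PerfectClosure.mk R p (m, a) = PerfectClosure.mk R p (m + m', a ^ p ^ m') := by
    intro m m' a
    induction m' with
    | zero => simp
    | succ m' ih =>
      rw [ih, show a ^ p ^ (m' + 1) = (a ^ p ^ m') ^ p by rw [← pow_mul, pow_succ], ← add_assoc,
        PerfectClosure.mk_succ_pow]
  have hρadd : ∀ x y, ρ (x + y) = ρ x + ρ y := by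
    intro x y
    induction x using PerfectClosure.induction_on with
    | h x =>
      induction y using PerfectClosure.induction_on with
      | h y =>
        obtain ⟨m, a⟩ := x
        obtain ⟨m', b⟩ := y
        rw [hlevel m m' a, hlevel m' m b, add_comm m' m]
        have : PerfectClosure.mk R p (m + m', a ^ p ^ m') + PerfectClosure.mk R p (m + m', b ^ p ^ m) =
            PerfectClosure.mk R p (m + m', a ^ p ^ m' + b ^ p ^ m) := by
          conv_rhs => rw [hlevel (m + m') (m + m')]
          rw [PerfectClosure.mk_add_mk, iterate_frobenius, iterate_frobenius, add_pow_char_pow]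
        rw [this, hρ, hρ, hρ, add_pow_char_pow, iterate_map_add]
  let α : PerfectClosure R p →ₗ[R] (J →₀ R) :=
    { toFun := fun x => s (ρ x)
      map_add' := fun x y => by rw [hρadd, map_add]
      map_smul' := fun r x => by
        rw [RingHom.id_apply, ← hs]
        congr 1
        induction x using PerfectClosure.induction_on with
        | h x =>
          obtain ⟨m, a⟩ := x
          rw [hsmul, of_mul_mk, hρ, hρ, mul_pow, ← pow_mul, ← pow_add, add_comm, pow_add, pow_mul, hφit] }
  let β : (J →₀ R) →ₗ[R] PerfectClosure R p :=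
    Finsupp.linearCombination R fun j => PerfectClosure.mk R p (n, f j)
  have hmkadd : ∀ a b : R, PerfectClosure.mk R p (n, a) + PerfectClosure.mk R p (n, b) =
      PerfectClosure.mk R p (n, a + b) := fun a b => by
    conv_rhs => rw [hlevel n n]
    rw [PerfectClosure.mk_add_mk, iterate_frobenius, iterate_frobenius, add_pow_char_pow]
  let ν : R →+ PerfectClosure R p := AddMonoidHom.mk' (fun a => PerfectClosure.mk R p (n, a)) fun a b => (hmkadd a b).symm
  refine ⟨J, α, β, fun m a hm => ?_⟩
  obtain ⟨d, rfl⟩ := Nat.exists_eq_add_of_le hm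
  rw [hlevel m d a]
  show Finsupp.linearCombination R _ (s (ρ _)) = _
  rw [hρ, hφit', Finsupp.linearCombination_apply]
  simp only [hsmul, of_mul_mk]
  show ((s (a ^ p ^ d)).sum fun j b => ν (b ^ p ^ (m + d) * f j)) = ν (a ^ p ^ d)
  conv_rhs => rw [hsum (a ^ p ^ d), map_finsuppSum]

theorem injective_perfection [Module.Projective R (FrobAlg.Twist p R)] {ι : Type} {N : ι → Type u}
    [∀ i, AddCommGroup (N i)] [∀ i, Module R (N i)] (Q : Submodule R (∀ i, N i)) :
    letI : Algebra R (PerfectClosure R p) := (PerfectClosure.of R p).toAlgebra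
    ∀ z : PerfectClosure R p ⊗[R] Q,
      (∀ i, ((LinearMap.proj i).comp Q.subtype).lTensor (PerfectClosure R p) z = 0) → z = 0 := by
  classical
  letI : Algebra R (PerfectClosure R p) := (PerfectClosure.of R p).toAlgebra
  intro z hz
  choose J α β hαβ using fun n => exists_retraction p R n
  obtain ⟨n, hn⟩ : ∃ n, ∀ n' ≥ n, (β n').rTensor Q ((α n').rTensor Q z) = z := by
    clear hz
    induction z with
    | zero => exact ⟨0, fun _ _ => by simp⟩
    | tmul x q =>
      induction x using PerfectClosure.induction_on with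
      | h x =>
        refine ⟨x.1, fun n' hn' => ?_⟩
        rw [LinearMap.rTensor_tmul, LinearMap.rTensor_tmul, hαβ n' x.1 x.2 hn']
    | add a b ha hb =>
      obtain ⟨na, ha⟩ := ha
      obtain ⟨nb, hb⟩ := hb
      refine ⟨max na nb, fun n' hn' => ?_⟩
      rw [map_add, map_add, ha n' ((le_max_left _ _).trans hn'), hb n' ((le_max_right _ _).trans hn')]
  have h0 : (α n).rTensor Q z = 0 := injective_of_projective Q _ fun i => by
    rw [naturality, hz i, map_zero]
  rw [← hn n le_rfl, h0, map_zero]

end Groth.Agent.PrePerfProj
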